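import Groth.Agent.IndCohLib.WeakSerre
import Groth.Agent.IndCohLib.Colim
import Groth.Agent.ModSiteLib.SheafHomColim

/-!
# Local kernels on a formal scheme; the internal hom out of a coherent module
-/

set_option autoImplicit false
set_option linter.style.haveILetI false
set_option linter.unusedSectionVars false
set_option maxHeartbeats 800000
set_option backward.isDefEq.respectTransparency false

universe u

open CategoryTheory CategoryTheory.Limits AlgebraicGeometry TopologicalSpace Opposite FSch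
open FModLib (MSec RSec mres rres lc)
open IndCohLib

noncomputable section

namespace FSheafHomLib

variable {𝔛 : Sys.{u}} (hloc : 𝔛.IsLocNoethFormal)

/-- A linear, restriction-compatible family of maps on the sections below an open. -/
structure LocHom (M N : ModF 𝔛 hloc.1) (U : (𝔛.X 0).Opens) where
  f : ∀ {W : (𝔛.X 0).Opens}, W ≤ U → (MSec M W →ₗ[RSec (𝔛.Osh hloc.1) W] MSec N W)
  nat : ∀ {W W' : (𝔛.X 0).Opens} (hW : W ≤ U) (h : W' ≤ W) (x : MSec M W),
    f (h.trans hW) (mres M h x) = mres N h (f hW x)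

/-- `H` is, below `U`, the kernel of a map from `M` to `N`. -/
structure LocKer (H M N : ModF 𝔛 hloc.1) (U : (𝔛.X 0).Opens) where
  κ : LocHom hloc H M U
  θ : LocHom hloc M N U
  inj : ∀ {W : (𝔛.X 0).Opens} (h : W ≤ U), Function.Injective (κ.f h)
  comp : ∀ {W : (𝔛.X 0).Opens} (h : W ≤ U) (x : MSec H W), θ.f h (κ.f h x) = 0
  lift : ∀ {W : (𝔛.X 0).Opens} (h : W ≤ U) (y : MSec M W), θ.f h y = 0 → ∃ x, κ.f h x = y

variable {hloc} {M N H : ModF 𝔛 hloc.1} {U V : (𝔛.X 0).Opens}

theorem LocHom.app_lc (φ : LocHom hloc M N U) {ι : Type u} [Fintype ι] {W : (𝔛.X 0).Opens} (hVU : V ≤ U) (h : W ≤ V)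
    (e : ι → MSec M V) (c : ι → RSec (𝔛.Osh hloc.1) W) :
    φ.f (h.trans hVU) (lc M h e c) = lc N h (fun i => φ.f hVU (e i)) c := by
  refine (map_sum (φ.f (h.trans hVU)) _ _).trans (Finset.sum_congr rfl fun i _ => ?_)
  exact ((φ.f (h.trans hVU)).map_smul (c i) _).trans
    (congrArg (fun z : MSec N W => c i • z) (φ.nat hVU h (e i)))

theorem LocKer.good (K : LocKer hloc H M N U) (hVU : V ≤ U) (hM : Good hloc M V) (hN : Good hloc N V) :
    Good hloc H V := by
  classical
  refine ⟨hM.affine, fun W hW x q hq => ?_, fun k _ f W hW c hc q hq => ?_⟩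
  · obtain ⟨W₁, hW₁, k, _, f, c, hq₁, hcM⟩ := hM.gen W hW (K.κ.f (hW.trans hVU) x) q hq
    have h0 : lc N (hW₁.trans hW) (fun i => K.θ.f hVU (f i)) c = 0 := by
      refine (K.θ.app_lc hVU (hW₁.trans hW) f c).symm.trans ?_
      refine (congrArg (K.θ.f _) hcM).symm.trans ((K.θ.nat (hW.trans hVU) hW₁ _).trans ?_)
      exact (congrArg (mres N hW₁) (K.comp _ x)).trans (map_zero _)
    obtain ⟨W₂, hW₂, Z, d, hq₂, hZ, hd⟩ := hN.rel k _ W₁ (hW₁.trans hW) c h0 q hq₁
    choose g hg using fun z : Z => K.lift hVU (lc M le_rfl f z.1)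
      ((K.θ.app_lc hVU le_rfl f z.1).trans (hZ z.1 z.2))
    refine ⟨W₂, hW₂.trans hW₁, Z, inferInstance, g, fun z => d z.1, hq₂, ?_⟩
    have h21 := hW₂.trans (hW₁.trans hW)
    refine K.inj (h21.trans hVU) ?_
    refine Eq.trans ?_ (K.κ.app_lc hVU h21 g (fun z => d z.1)).symm
    refine Eq.trans ?_ (congrArg (fun t => lc M h21 t fun z : Z => d z.1) (funext hg).symm)
    refine Eq.trans ?_ (FCohLib.lc_sum M h21 (fun z : Z => d z.1) (fun z : Z => z.1) f)
    refine (K.κ.nat (hW.trans hVU) (hW₂.trans hW₁) x).trans ((FModLib.mres_mres M hW₂ hW₁ _).symm.trans ?_)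
    refine (congrArg (mres M hW₂) hcM).trans ((FModLib.mres_lc M hW₂ _ f c).trans ?_)
    exact congrArg (lc M h21 f) (funext fun i => (hd i).trans (Finset.sum_coe_sort Z _).symm)
  · obtain ⟨W', hW', Z, d, hqW, hZ, hd⟩ := hM.rel k (fun i => K.κ.f hVU (f i)) W hW c
      ((K.κ.app_lc hVU hW f c).symm.trans ((congrArg _ hc).trans (map_zero _))) q hq
    refine ⟨W', hW', Z, d, hqW, fun z hz => K.inj hVU ?_, hd⟩
    exact (K.κ.app_lc hVU le_rfl f z).trans ((hZ z hz).trans (map_zero _).symm)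

/-- A local kernel inside a coherent module has finitely many generators over an affine open. -/
theorem LocKer.finGenOn (K : LocKer hloc H M N U) (hVU : V ≤ U) (hV : IsAffineOpen V) (hM : IsCohF 𝔛 hloc.1 M)
    (hH : Good hloc H V) : ∃ (n : Type u) (_ : Fintype n) (e : n → MSec H V),
      ∀ (W : (𝔛.X 0).Opens) (hW : W ≤ V) (x : MSec H W), ∀ q ∈ W,
        ∃ (W' : (𝔛.X 0).Opens) (hW' : W' ≤ W) (c : n → RSec (𝔛.Osh hloc.1) W'), q ∈ W' ∧
          mres H hW' x = lc H (hW'.trans hW) e c := by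
  classical
  obtain ⟨ι, μ, _, _, ⟨D⟩⟩ := FCohLib.exists_presOn hloc hM hV
  let R := RSec (𝔛.Osh hloc.1) V
  obtain ⟨-, hN, -⟩ := FCohLib.exists_adic hloc hV
  have : Module.Finite R (MSec M V) := ⟨Submodule.fg_def.2 ⟨Set.range fun i => mres M le_rfl (D.e i),
    Set.finite_range _, eq_top_iff.2 fun x _ => by
      obtain ⟨b, rfl⟩ := FCohLib.exists_comb hloc hM D hV le_rfl x
      exact Submodule.sum_mem _ fun i _ => Submodule.smul_mem _ _ (Submodule.subset_span ⟨i, rfl⟩)⟩⟩
  have : IsNoetherian R (MSec H V) := isNoetherian_of_injective (K.κ.f hVU) (K.inj hVU)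
  obtain ⟨T, hT⟩ := IsNoetherian.noetherian (⊤ : Submodule R (MSec H V))
  have hβ : ∀ x : MSec H V, ∃ β : T → R, ∑ t, β t • t.1 = x := fun x => by
    have h : x ∈ Submodule.span R (Set.range fun t : T => t.1) := by
      rw [Subtype.range_coe_subtype, Finset.setOf_mem, hT]; trivial
    exact (Submodule.mem_span_range_iff_exists_fun R).1 h
  choose β hβ using hβ
  refine ⟨T, inferInstance, fun t => t.1, fun W hW x q hq => ?_⟩
  obtain ⟨W', hW', k, _, f, c, hqW, hc⟩ := hH.gen W hW x q hq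
  have hWV := hW'.trans hW
  refine ⟨W', hW', fun t => ∑ i, c i * rres (𝔛.Osh hloc.1) hWV (β (f i) t), hqW, hc.trans ?_⟩
  refine Eq.trans ?_ ((Finset.sum_congr rfl fun t _ => Finset.sum_smul).trans Finset.sum_comm).symm
  refine Finset.sum_congr rfl fun i _ => ?_
  refine Eq.trans ?_ (Finset.sum_congr rfl fun t _ => mul_smul (c i) _ _).symm
  refine Eq.trans ?_ Finset.smul_sum
  refine congrArg (fun z : MSec H W' => c i • z) ?_
  refine (congrArg (mres H hWV) (hβ (f i)).symm).trans ?_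
  exact (map_sum (H.val.map (homOfLE hWV).op).hom _ _).trans
    (Finset.sum_congr rfl fun t _ => PresheafOfModules.map_smul H.val (homOfLE hWV).op _ _)

/-- A map over the site below `U`, as a family of maps on sections. -/
def locHomOf (φ : (ModSite.restr (𝔛.Osh hloc.1) U).obj M ⟶ (ModSite.restr (𝔛.Osh hloc.1) U).obj N) :
    LocHom hloc M N U where
  f {W} h := (φ.val.app (op (Over.mk (homOfLE h)))).hom
  nat {W W'} hW h x := PresheafOfModules.naturality_apply φ.val
    (Over.homMk (homOfLE h) (Subsingleton.elim _ _) : Over.mk (homOfLE (h.trans hW)) ⟶ Over.mk (homOfLE hW)).op x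

open ModSiteLib in
/-- An iso-kernel over the site below `U` gives a local kernel. -/
theorem exists_locKer {T : ModSite.Mod ((𝔛.Osh hloc.1).over U)}
    (κ : (ModSite.restr (𝔛.Osh hloc.1) U).obj H ⟶ (ModSite.restr (𝔛.Osh hloc.1) U).obj M)
    (θ : (ModSite.restr (𝔛.Osh hloc.1) U).obj M ⟶ T) (w : κ ≫ θ = 0) (hk : IsLimit (KernelFork.ofι κ w))
    (eN : T ≅ (ModSite.restr (𝔛.Osh hloc.1) U).obj N) : Nonempty (LocKer hloc H M N U) := by
  let θ' := θ ≫ eN.hom
  have w' : κ ≫ θ' = 0 := by rw [reassoc_of% w, zero_comp]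
  haveI : Mono κ := Fork.IsLimit.mono hk
  refine ⟨⟨locHomOf κ, locHomOf θ', fun {W} h => ModSiteLib.injective_ap_of_mono κ (Over.mk (homOfLE h)), fun {W} h x => ?_, fun {W} h y hy => ?_⟩⟩
  · exact congr($(congrArg (fun a : (ModSite.restr (𝔛.Osh hloc.1) U).obj H ⟶ (ModSite.restr (𝔛.Osh hloc.1) U).obj N =>
      a.val.app (op (Over.mk (homOfLE h)))) w') x)
  · obtain ⟨r, hr⟩ := ModSiteLib.exists_kernel_section θ' (Over.mk (homOfLE h)) y hy
    have e : kernel.ι θ' ≫ θ = 0 := by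
      rw [← cancel_mono eN.hom, Category.assoc, zero_comp]
      exact kernel.condition θ'
    obtain ⟨l, hl⟩ := KernelFork.IsLimit.lift' hk (kernel.ι θ') e
    refine ⟨l.val.app (op (Over.mk (homOfLE h))) r, ?_⟩
    refine Eq.trans ?_ hr
    exact congr($(congrArg (fun a : kernel θ' ⟶ (ModSite.restr (𝔛.Osh hloc.1) U).obj M =>
      a.val.app (op (Over.mk (homOfLE h)))) hl) r)

variable (hloc)

/-- Finite products of modules good over `V` are good over `V`. -/
theorem good_piObj {ι : Type u} [Finite ι] (f : ι → ModF 𝔛 hloc.1) (hV : IsAffineOpen V)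
    (hf : ∀ i, Good hloc (f i) V) : Good hloc (∏ᶜ f) V := by
  let P : ObjectProperty (ModF 𝔛 hloc.1) := fun G => Good hloc G V
  haveI : P.IsClosedUnderIsomorphisms := ⟨fun e h => good_of_iso hloc e h⟩
  haveI : P.IsClosedUnderBinaryProducts := ObjectProperty.IsClosedUnderLimitsOfShape.mk' (by
    rintro X ⟨F, hF⟩
    exact good_of_iso hloc (biprod.isoProd _ _ ≪≫ (HasLimit.isoOfNatIso (diagramIsoPair F)).symm)
      (good_biprod hloc (hF ⟨WalkingPair.left⟩) (hF ⟨WalkingPair.right⟩)))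
  haveI : P.IsClosedUnderLimitsOfShape (Discrete.{0} PEmpty) := ObjectProperty.IsClosedUnderLimitsOfShape.mk' (by
    rintro X ⟨F, hF⟩
    exact good_of_isCohF hloc (isCohF_isZero hloc (IsTerminal.isZero (IsTerminal.ofUnique _ (h := fun Y =>
      { default := limit.lift F { pt := Y, π := Discrete.natTrans fun j => j.as.elim }
        uniq := fun g => limit.hom_ext fun j => j.as.elim })))) hV)
  haveI : P.IsClosedUnderFiniteProducts := ObjectProperty.IsClosedUnderFiniteProducts.mk'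
  exact P.prop_product hf

/-- Finite products of coherent modules are coherent. -/
theorem isCohF_piObj {ι : Type u} [Finite ι] (f : ι → ModF 𝔛 hloc.1)
    (hf : ∀ i, IsCohF 𝔛 hloc.1 (f i)) : IsCohF 𝔛 hloc.1 (∏ᶜ f) := by
  let P : ObjectProperty (ModF 𝔛 hloc.1) := fun G => IsCohF 𝔛 hloc.1 G
  haveI : P.IsClosedUnderIsomorphisms := ⟨fun e h => FCohLib.isCohF_of_iso e h⟩
  haveI : P.IsClosedUnderBinaryProducts := ObjectProperty.IsClosedUnderLimitsOfShape.mk' (by
    rintro X ⟨F, hF⟩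
    exact FCohLib.isCohF_of_iso (biprod.isoProd _ _ ≪≫ (HasLimit.isoOfNatIso (diagramIsoPair F)).symm)
      (isCohF_biprod hloc (hF ⟨WalkingPair.left⟩) (hF ⟨WalkingPair.right⟩)))
  haveI : P.IsClosedUnderLimitsOfShape (Discrete.{0} PEmpty) := ObjectProperty.IsClosedUnderLimitsOfShape.mk' (by
    rintro X ⟨F, hF⟩
    exact (isCohF_isZero hloc (IsTerminal.isZero (IsTerminal.ofUnique _ (h := fun Y =>
      { default := limit.lift F { pt := Y, π := Discrete.natTrans fun j => j.as.elim }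
        uniq := fun g => limit.hom_ext fun j => j.as.elim })))))
  haveI : P.IsClosedUnderFiniteProducts := ObjectProperty.IsClosedUnderFiniteProducts.mk'
  exact P.prop_product hf

attribute [local instance] ModSiteLib.hasSheafHom

/-- Locally the internal hom out of a coherent module is the kernel of a map between finite products. -/
theorem exists_locKer_sheafHom (F G : ModF 𝔛 hloc.1) (hF : IsCohF 𝔛 hloc.1 F) [ModSite.HasSheafHom F] (p : 𝔛.X 0) :
    ∃ (U : (𝔛.X 0).Opens) (ι κ : Type u) (_ : Finite ι) (_ : Finite κ), p ∈ U ∧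
      Nonempty (LocKer hloc ((ModSite.sheafHom F).obj G) (∏ᶜ fun _ : ι => G) (∏ᶜ fun _ : κ => G) U) := by
  obtain ⟨U, ι, κ, _, _, π, ψ, hπ, w, hpU, hlift⟩ := FModLib.exists_locPres F hF p
  refine ⟨U, ι, κ, inferInstance, inferInstance, hpU, ?_⟩
  let O' := (𝔛.Osh hloc.1).over U
  let R := ModSite.restr (𝔛.Osh hloc.1) U
  let Φ : (ModSite.Mod O')ᵒᵖ ⥤ ModSite.Mod O' := (ModSiteLib.sheafHomBi O').flip.obj (R.obj G)
  haveI : PreservesFiniteLimits Φ :=
    haveI := ModSiteLib.preservesFiniteLimits_sheafHomBi O'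
    comp_preservesFiniteLimits (ModSiteLib.sheafHomBi O') ((evaluation _ _).obj (R.obj G))
  haveI : Φ.PreservesZeroMorphisms := Functor.preservesZeroMorphisms_of_preserves_terminal_object
  haveI := hπ
  let S := ShortComplex.mk ψ π w
  have hS : S.Exact := S.exact_iff_epi_kernel_lift.2 hlift
  haveI : Epi S.g := hπ
  haveI : Mono S.op.f := inferInstanceAs (Mono π.op)
  have hk : IsLimit (KernelFork.ofι S.op.f S.op.zero) := hS.op.fIsKernel
  have hk' := KernelFork.mapIsLimit _ hk Φ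
  haveI : PreservesLimitsOfSize.{u, u} R := (Adjunction.ofIsRightAdjoint R).rightAdjoint_preservesLimits
  let ef : ∀ (σ : Type u) [Finite σ], Φ.obj (op (SheafOfModules.free (R := ModSite.ringSh O') σ)) ≅
      R.obj (∏ᶜ fun _ : σ => G) := fun σ _ =>
    Φ.mapIso (opCoproductIsoProduct fun _ : σ => ModSite.unit O') ≪≫ PreservesProduct.iso Φ _ ≪≫
      Pi.mapIso (fun _ => (ModSiteLib.sheafHomUnitIso O').app (R.obj G)) ≪≫
      (PreservesProduct.iso R fun _ : σ => G).symm
  let e₀ : R.obj ((ModSite.sheafHom F).obj G) ≅ Φ.obj (op (R.obj F)) :=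
    (ModSiteLib.restrSheafHomIso U F).app G
  let a := e₀.hom ≫ Φ.map π.op ≫ (ef ι).hom
  let b := (ef ι).inv ≫ Φ.map ψ.op
  have wab : a ≫ b = 0 := by
    simp only [a, b, Category.assoc, Iso.hom_inv_id_assoc]
    rw [← Φ.map_comp, ← op_comp, w, op_zero, Φ.map_zero, comp_zero]
  haveI : Mono (Φ.map π.op) := Fork.IsLimit.mono hk'
  haveI : Mono a := inferInstanceAs (Mono (e₀.hom ≫ Φ.map π.op ≫ (ef ι).hom))
  have hab : IsLimit (KernelFork.ofι a wab) := KernelFork.IsLimit.ofι' a wab fun k hkb =>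
    let l := KernelFork.IsLimit.lift' hk' (k ≫ (ef ι).inv) ((Category.assoc _ _ _).trans hkb)
    ⟨l.1 ≫ e₀.inv, by
      have hl : l.1 ≫ Φ.map π.op = k ≫ (ef ι).inv := l.2
      simp only [a, Category.assoc, Iso.inv_hom_id_assoc]
      rw [reassoc_of% hl, Iso.inv_hom_id, Category.comp_id]⟩
  exact exists_locKer a b wab hab (ef κ)

/-- The internal hom out of a coherent module into a quasi-coherent one. -/
theorem isQC_sheafHom (F G : ModF 𝔛 hloc.1) (hF : IsCohF 𝔛 hloc.1 F) [ModSite.HasSheafHom F]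
    (hG : IsQC hloc G) : IsQC hloc ((ModSite.sheafHom F).obj G) := fun p => by
  obtain ⟨U, ι, κ, _, _, hpU, ⟨K⟩⟩ := exists_locKer_sheafHom hloc F G hF p
  obtain ⟨U', hpU', h'⟩ := hG p
  exact ⟨U ⊓ U', ⟨hpU, hpU'⟩, fun V hV hle => K.good (hle.trans inf_le_left)
    (good_piObj hloc _ hV fun _ => h' V hV (hle.trans inf_le_right))
    (good_piObj hloc _ hV fun _ => h' V hV (hle.trans inf_le_right))⟩

theorem finGen_sheafHom (F G : ModF 𝔛 hloc.1) (hF : IsCohF 𝔛 hloc.1 F) [ModSite.HasSheafHom F]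
    (hG : IsCohF 𝔛 hloc.1 G) : FCohLib.FinGen hloc ((ModSite.sheafHom F).obj G) := fun p => by
  obtain ⟨U, ι, κ, _, _, hpU, ⟨K⟩⟩ := exists_locKer_sheafHom hloc F G hF p
  obtain ⟨V, hV, hpV, hle⟩ := Opens.isBasis_iff_nbhd.mp (𝔛.X 0).isBasis_affineOpens (U := U) (x := p) hpU
  obtain ⟨n, _, e, he⟩ := K.finGenOn hle hV (isCohF_piObj hloc _ fun _ => hG)
    (K.good hle (good_piObj hloc _ hV fun _ => good_of_isCohF hloc hG hV)
      (good_piObj hloc _ hV fun _ => good_of_isCohF hloc hG hV))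
  exact ⟨V, n, inferInstance, e, hpV, he⟩

end FSheafHomLib

end
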